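import Cfsg.Agent.H942.L16.Calc
import Cfsg.Agent.H955.L16.Stmt

/-!
# S5916 (helper942): the elimination for families of type R with the indices `(0,1)`
-/

set_option autoImplicit false
set_option maxRecDepth 100000

namespace Cfsg.Agent.H942.L16

open Cfsg Cfsg.Lie
open Cfsg.Agent.H939.L64 (KK LK brK)
open Cfsg.Agent.H413.L16 (er nr rk8)
open Cfsg.Agent.H939.L16
open Cfsg.Agent.H955.L16

namespace R01

/-- the variables -/
noncomputable def xs (k o1 o3 r1 r2 r3 r0 K1 K2 A A2 B : KK) (p : ℕ) : KK :=
  if p = 2 then k else if p = 3 then o1 else if p = 5 then o3 else if p = 7 then r1 else if p = 11 then r2 else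
  if p = 13 then r3 else if p = 17 then r0 else if p = 19 then K1 else if p = 23 then K2 else if p = 29 then A else
  if p = 31 then A2 else B

/-- the family -/
def L : Bool → Bool → List (ℕ × List ℕ)
  | true, true => [(2, [28, 36]), (129, [30]), (154, [28]), (156, [30]), (157, [18]), (167, [36]), (172, [22])]
  | false, true => [(127, [2]), (128, [1]), (131, [2]), (136, [4]), (137, [10]), (143, [12]), (147, [6]), (148, [16]),
      (163, [4])]
  | true, false => [(77, [4]), (92, [2]), (96, [4]), (97, [2, 4, 10]), (103, [2, 12]), (108, [4, 6]),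
      (109, [2, 4, 6, 10, 12, 16]), (115, [2]), (116, [1, 2])]
  | false, false => [(68, [36]), (73, [22, 36]), (83, [28]), (85, [30]), (86, [18, 28, 30]), (114, [30]),
      (238, [28, 36])]

def Z (a b c d : Bool) : List (ℕ × List ℕ) := brS (L a b) (frS (frS (L c d)))

def S (a d : Bool) : List (ℕ × List ℕ) := brS (L a true) (frS (L false d)) ++ brS (L a false) (frS (L true d))

theorem ok1 : ∀ a b, okI (L a b) = true := by decide +kernel

theorem ok2 : ∀ a b, okI (frS (L a b)) = true := by decide +kernel

theorem ok3 : ∀ a b c d, okB (L a b) (frS (frS (L c d))) = true := by decide +kernel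

theorem ok4 : ∀ a b c d, okI (Z a b c d) = true := by decide +kernel

theorem ok5 : ∀ a b d, okB (L a b) (frS (L (!b) d)) = true := by decide +kernel

theorem ok6 : ∀ a d, okI (S a d) = true := by decide +kernel

/-- a coordinate of the quadratic invariant -/
def inv (t : ℕ) : List ℕ := sumP [cR t (Z true true true true) (Z false false false false),
  cR t (Z true true true false) (Z false false false true), cR t (Z true true false true) (Z false false true false),
  cR t (Z true true false false) (Z false false true true), cR t (Z true false true true) (Z false true false false),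
  cR t (Z true false true false) (Z false true false true), cR t (Z true false false true) (Z false true true false),
  cR t (Z true false false false) (Z false true true true)]

theorem inv135 : inv 135 = [59048, 9765624, 45511874, 7503696194414, 12506160324024] := by decide +kernel

theorem inv141 : inv 141 = [12506160324024, 4808584372417848] := by decide +kernel

theorem sig3 : sumP [cH 3 (S true true) (S false false), cH 3 (S true false) (S false true)] = [46854024] := by
  decide +kernel

theorem tv : TS (L false true) = L true false := by decide +kernel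

theorem tu : TS (L true true) = L false false := by decide +kernel

theorem okv : okT (L false true) = true := by decide +kernel

theorem oku : okT (L true true) = true := by decide +kernel

end R01

open R01

theorem elimR01 {Fp : LK → LK} {ta : LK →ₗ[KK] LK} (O : Ops Fp ta) : ElimR01 Fp ta := by
  intro s k o1 o3 r1 r2 r3 r0 K1 K2 A A2 B hR hA hv hu hT hS hI hG
  obtain ⟨x, hx⟩ : ∃ x, x = xs k o1 o3 r1 r2 r3 r0 K1 K2 A A2 B := ⟨_, rfl⟩
  have m1 : mv x 1 = k := by subst hx; exact mv_prime _ (p := 2) (by norm_num)
  have m2 : mv x 2 = o1 := by subst hx; exact mv_prime _ (p := 3) (by norm_num)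
  have m4 : mv x 4 = o3 := by subst hx; exact mv_prime _ (p := 5) (by norm_num)
  have m6 : mv x 6 = r1 := by subst hx; exact mv_prime _ (p := 7) (by norm_num)
  have m10 : mv x 10 = r2 := by subst hx; exact mv_prime _ (p := 11) (by norm_num)
  have m12 : mv x 12 = r3 := by subst hx; exact mv_prime _ (p := 13) (by norm_num)
  have m16 : mv x 16 = r0 := by subst hx; exact mv_prime _ (p := 17) (by norm_num)
  have m18 : mv x 18 = K1 := by subst hx; exact mv_prime _ (p := 19) (by norm_num)
  have m22 : mv x 22 = K2 := by subst hx; exact mv_prime _ (p := 23) (by norm_num)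
  have m28 : mv x 28 = A := by subst hx; exact mv_prime _ (p := 29) (by norm_num)
  have m30 : mv x 30 = A2 := by subst hx; exact mv_prime _ (p := 31) (by norm_num)
  have m36 : mv x 36 = B := by subst hx; exact mv_prime _ (p := 37) (by norm_num)
  clear hx
  have hv' : s false true = sv x (L false true) := by
    rw [hv]
    unfold L vR
    simp only [sv_cons, sv_nil, pv_cons, pv_nil, m1, m2, m4, m6, m10, m12, m16, add_zero, smul_add]
    abel
  have hu' : s true true = sv x (L true true) := by
    rw [hu]
    unfold L vN
    simp only [sv_cons, sv_nil, pv_cons, pv_nil, m18, m22, m28, m30, m36, add_zero, smul_add, add_smul]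
    abel
  have hs : ∀ a b, s a b = sv x (L a b) := by
    intro a b
    cases a <;> cases b
    · have h := hT true true
      rw [Bool.not_true] at h
      rw [h, hu']
      unfold T
      rw [sv_TS O x _ oku, tu]
    · exact hv'
    · have h := hT false true
      rw [Bool.not_true, Bool.not_false] at h
      rw [h, hv']
      unfold T
      rw [sv_TS O x _ okv, tv]
    · exact hu'
  have hz : ∀ a b c d, brK (s a b) (Fp (Fp (s c d))) = sv x (Z a b c d) := by
    intro a b c d
    rw [hs c d, sv_frS O x _ (ok1 c d), sv_frS O x _ (ok2 c d), hs a b, sv_brS x _ _ (ok3 a b c d)]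
    rfl
  have hInv : ∀ t (ht : t < chevE8.nroots), pv x (inv t) = 0 := by
    intro t ht
    have h := hI
    unfold INV2 at h
    simp only [Fintype.sum_bool, Bool.not_true, Bool.not_false] at h
    simp only [hz] at h
    have h1 := congrFun h (Sum.inr ⟨t, ht⟩)
    simp only [Pi.add_apply, pv_cR x ht _ _ (ok4 _ _ _ _) (ok4 _ _ _ _)] at h1
    unfold inv
    rw [pv_sumP]
    simp only [List.map_cons, List.map_nil, List.sum_cons, List.sum_nil, add_zero]
    rw [Pi.zero_apply] at h1
    linear_combination h1
  have hg : ∀ a d, sg Fp s a d = sv x (S a d) := by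
    intro a d
    unfold sg S
    rw [Fintype.sum_bool, Bool.not_true, Bool.not_false, sv_append, hs false d, hs true d, sv_frS O x _ (ok1 false d),
      sv_frS O x _ (ok1 true d), hs, hs, 
      sv_brS x _ _ (show okB (L a true) (frS (L false d)) = true from ok5 a true d),
      sv_brS x _ _ (show okB (L a false) (frS (L true d)) = true from ok5 a false d)]
  have e135 := hInv 135 (by rw [nr]; norm_num)
  rw [inv135] at e135
  have e141 := hInv 141 (by rw [nr]; norm_num)
  rw [inv141] at e141
  have eS : pv x [46854024] = 0 := by
    have h := hG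
    unfold SIG at h
    simp only [hg] at h
    have h1 := congrFun h (Sum.inl ⟨3, by rw [rk8]; norm_num⟩)
    simp only [Pi.add_apply, pv_cH x _ _ _ (ok6 _ _) (ok6 _ _)] at h1
    rw [← sig3, pv_sumP]
    simp only [List.map_cons, List.map_nil, List.sum_cons, List.sum_nil, add_zero]
    exact h1
  have p1 : mv x 59048 = o1 ^ 10 := by
    rw [show (59048 : ℕ) = mp 2 10 by decide +kernel, mv_mp, m2]
  have p2 : mv x 9765624 = o3 ^ 10 := by
    rw [show (9765624 : ℕ) = mp 4 10 by decide +kernel, mv_mp, m4]
  have p3 : mv x 45511874 = A * A2 * (o1 ^ 4 * o3 ^ 4) := by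
    rw [show (45511874 : ℕ) = mm (mm 28 30) (mm (mp 2 4) (mp 4 4)) by decide +kernel, mv_mm, mv_mm, mv_mm, mv_mp, mv_mp,
      m2, m4, m28, m30]
  have p4 : mv x 7503696194414 = A ^ 8 * (o1 * o3) := by
    rw [show (7503696194414 : ℕ) = mm (mp 28 8) (mm 2 4) by decide +kernel, mv_mm, mv_mm, mv_mp, m2, m4, m28]
  have p5 : mv x 12506160324024 = A ^ 8 * o3 ^ 2 := by
    rw [show (12506160324024 : ℕ) = mm (mp 28 8) (mp 4 2) by decide +kernel, mv_mm, mv_mp, mv_mp, m4, m28]
  have p6 : mv x 4808584372417848 = B ^ 10 := by
    rw [show (4808584372417848 : ℕ) = mp 36 10 by decide +kernel, mv_mp, m36]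
  have p7 : mv x 46854024 = B ^ 4 * o3 ^ 2 := by
    rw [show (46854024 : ℕ) = mm (mp 36 4) (mp 4 2) by decide +kernel, mv_mm, mv_mp, mv_mp, m4, m36]
  simp only [pv_cons, pv_nil, add_zero, p1, p2, p3, p4, p5] at e135
  simp only [pv_cons, pv_nil, add_zero, p5, p6] at e141
  simp only [pv_cons, pv_nil, add_zero, p7] at eS
  obtain ⟨-, h13, -⟩ := hR
  have h1 : o1 = 0 := by
    rcases mul_eq_zero.1 h13 with h | h
    · exact h
    · rw [h] at e135
      simpa using e135
  refine ⟨h1, ?_⟩
  rw [h1] at e135
  by_contra h3
  rcases mul_eq_zero.1 eS with h | h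
  · have hB : B = 0 := by simpa using h
    rw [hB] at e141
    have hA8 : A ^ 8 * o3 ^ 2 = 0 := by simpa using e141
    rcases mul_eq_zero.1 hA8 with h | h
    · have hA0 : A = 0 := by simpa using h
      rw [hA0] at e135
      exact h3 (by simpa using e135)
    · exact h3 (by simpa using h)
  · exact h3 (by simpa using h)

end Cfsg.Agent.H942.L16
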