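import Cfsg.Agent.H413.L16.Frame
import Cfsg.Agent.H413.L16.Cz
import Cfsg.Agent.H597.E8Form

/-!
# S5916 (helper942): the invariant form in characteristic two and the logarithm of `τ`

* `BF` : the invariant symmetric form; `BF_symm`, `BF_aK`, `BF_eq_zero`, `BF_br`;
* `log16` : `B(v, τ v) = B(c₀, v)²`;
* `sqz_c0` : `(ad c₀)² = 0`;
* `Lg_conj`, `Lg_unique`, `Lg_comm`.
-/

set_option autoImplicit false
set_option linter.unusedSectionVars false
set_option maxRecDepth 100000

namespace Cfsg.Agent.H942.L16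

open Matrix Cfsg Cfsg.Lie Cfsg.Lie.ChevalleyDatum
open Cfsg.Agent.H939.L64 (KK LK brK aK fr)
open Cfsg.Agent.H413.L16
open Cfsg.Agent.H413.L64 (charKK)
open Cfsg.Agent.H939.L16 (wi)
open Cfsg.Agent.H876.L64 (two_zero aK_mul aK_one aK_inv aK_inv' aK_add aK_smul aK_zero aK_brK)
open Cfsg.Agent.ChevalleyStructure.Columns (car cor)

theorem bal (u v w : LK) : brK (u + v) w = brK u w + brK v w := Cfsg.Agent.H971.RV.br_add_left u v w

theorem bar (u v w : LK) : brK u (v + w) = brK u v + brK u w := Cfsg.Agent.H971.RV.br_add_right u v w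

theorem bsl (c : KK) (v w : LK) : brK (c • v) w = c • brK v w := Cfsg.Agent.H971.RV.br_smul_left c v w

theorem bsr (c : KK) (v w : LK) : brK v (c • w) = c • brK v w := Cfsg.Agent.H971.RV.br_smul_right c v w

theorem bzl (w : LK) : brK 0 w = 0 := by
  have := bsl 0 0 w
  rwa [zero_smul, zero_smul] at this

theorem bzr (w : LK) : brK w 0 = 0 := by
  have := bsr 0 w 0
  rwa [zero_smul, zero_smul] at this

theorem kadd_self (a : KK) : a + a = 0 := by rw [← two_mul, two_zero, zero_mul]

theorem ladd_self (v : LK) : v + v = 0 := by rw [← two_smul KK, two_zero, zero_smul]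

/-- the Jacobi identity in characteristic two -/
theorem jac2 (x y z : LK) : brK (brK x y) z = brK x (brK y z) + brK y (brK x z) := by
  rw [jac x y z]
  rw [add_assoc, ladd_self, add_zero]

/-- induction on the basis -/
theorem lk_ind {P : LK → Prop} (h0 : P 0) (ha : ∀ u v, P u → P v → P (u + v)) (hs : ∀ (c : KK) u, P u → P (c • u))
    (he : ∀ s < 240, P (er s)) (hh : ∀ k : Fin 8, P (hr (six k))) (v : LK) : P v := by
  have hv' : v = ∑ i, v i • (Pi.single i 1 : LK) := by
    funext j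
    rw [Finset.sum_apply, Finset.sum_eq_single j]
    · rw [Pi.smul_apply, Pi.single_eq_same, smul_eq_mul, mul_one]
    · intro b _ hb
      rw [Pi.smul_apply, Pi.single_eq_of_ne hb.symm, smul_zero]
    · intro h; exact absurd (Finset.mem_univ _) h
  rw [hv']
  refine Finset.sum_induction _ P ha h0 fun i _ => hs _ _ ?_
  rw [single_eq]
  rcases i with i | a
  · show P (hv (Pi.single i 1))
    rw [← hr_six]
    exact hh _
  · exact he _ (lt_of_lt_of_eq a.2 nr)

/-! ### the form -/

/-- the matrix of the form -/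
noncomputable abbrev JK : Matrix chevE8.Idx chevE8.Idx KK := Cfsg.Agent.H597.E8Form.J KK

/-- the invariant symmetric form -/
noncomputable def BF : LK →ₗ[KK] LK →ₗ[KK] KK := Matrix.toLinearMap₂' KK JK

theorem BF_apply (u v : LK) : BF u v = u ⬝ᵥ (JK *ᵥ v) := Matrix.toLinearMap₂'_apply' _ _ _

theorem BF_symm (u v : LK) : BF u v = BF v u := by
  rw [BF_apply, BF_apply, Matrix.dotProduct_mulVec, ← Matrix.mulVec_transpose, Cfsg.Agent.H597.E8Form.J_transpose,
    dotProduct_comm]

theorem J_group (g : ↥(chevE8.group KK)) :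
    (((g : GL chevE8.Idx KK) : Matrix chevE8.Idx chevE8.Idx KK)).transpose * JK *
      (((g : GL chevE8.Idx KK) : Matrix chevE8.Idx chevE8.Idx KK)) = JK := by
  obtain ⟨g, hg⟩ := g
  unfold ChevalleyDatum.group at hg
  show ((g : Matrix chevE8.Idx chevE8.Idx KK)).transpose * JK * (g : Matrix chevE8.Idx chevE8.Idx KK) = JK
  induction hg using Subgroup.closure_induction with
  | mem x hx =>
    obtain ⟨r, t, h⟩ := hx
    rw [h]
    exact Cfsg.Agent.H597.E8Form.inv_gen r t
  | one => simp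
  | mul x y _ _ hx hy =>
    rw [Units.val_mul, Matrix.transpose_mul]
    calc ((y : Matrix chevE8.Idx chevE8.Idx KK)).transpose * ((x : Matrix chevE8.Idx chevE8.Idx KK)).transpose * JK *
          ((x : Matrix chevE8.Idx chevE8.Idx KK) * (y : Matrix chevE8.Idx chevE8.Idx KK))
        = ((y : Matrix chevE8.Idx chevE8.Idx KK)).transpose * (((x : Matrix chevE8.Idx chevE8.Idx KK)).transpose * JK *
          (x : Matrix chevE8.Idx chevE8.Idx KK)) * (y : Matrix chevE8.Idx chevE8.Idx KK) := by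
          simp only [Matrix.mul_assoc]
      _ = _ := by rw [hx, hy]
  | inv x _ hx =>
    have h1 : (x : Matrix chevE8.Idx chevE8.Idx KK) * ((x⁻¹ : GL chevE8.Idx KK) : Matrix chevE8.Idx chevE8.Idx KK) = 1 := by
      rw [← Units.val_mul, mul_inv_cancel, Units.val_one]
    calc (((x⁻¹ : GL chevE8.Idx KK) : Matrix chevE8.Idx chevE8.Idx KK)).transpose * JK *
          ((x⁻¹ : GL chevE8.Idx KK) : Matrix chevE8.Idx chevE8.Idx KK)
        = (((x⁻¹ : GL chevE8.Idx KK) : Matrix chevE8.Idx chevE8.Idx KK)).transpose *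
          (((x : Matrix chevE8.Idx chevE8.Idx KK)).transpose * JK * (x : Matrix chevE8.Idx chevE8.Idx KK)) *
          ((x⁻¹ : GL chevE8.Idx KK) : Matrix chevE8.Idx chevE8.Idx KK) := by rw [hx]
      _ = ((x : Matrix chevE8.Idx chevE8.Idx KK) *
          ((x⁻¹ : GL chevE8.Idx KK) : Matrix chevE8.Idx chevE8.Idx KK)).transpose * JK *
          ((x : Matrix chevE8.Idx chevE8.Idx KK) *
          ((x⁻¹ : GL chevE8.Idx KK) : Matrix chevE8.Idx chevE8.Idx KK)) := by
          simp only [Matrix.transpose_mul, Matrix.mul_assoc]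
      _ = JK := by rw [h1, Matrix.transpose_one, Matrix.one_mul, Matrix.mul_one]

/-- **the form is invariant** -/
theorem BF_aK (g : ↥(chevE8.group KK)) (u v : LK) : BF (aK g u) (aK g v) = BF u v := by
  rw [BF_apply, BF_apply]
  unfold aK
  rw [Matrix.mulVec_mulVec, Matrix.dotProduct_mulVec, Matrix.dotProduct_mulVec, ← Matrix.vecMul_transpose,
    Matrix.vecMul_vecMul, ← Matrix.mul_assoc, J_group]

/-- **the form is nondegenerate** -/
theorem BF_eq_zero {u : LK} (h : ∀ v, BF u v = 0) : u = 0 := by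
  have h1 : u ᵥ* JK = 0 := by
    funext j
    have := h (Pi.single j 1)
    rw [BF_apply, Matrix.dotProduct_mulVec, dotProduct_single_one] at this
    exact this
  obtain ⟨⟨A, B, hAB, hBA⟩, hA⟩ := (Matrix.isUnit_iff_isUnit_det _).2 (Cfsg.Agent.H597.E8Form.isUnit_det (K := KK))
  have hA' : A = JK := hA
  rw [hA'] at hAB
  calc u = u ᵥ* (JK * B) := by rw [hAB, Matrix.vecMul_one]
    _ = (u ᵥ* JK) ᵥ* B := by rw [Matrix.vecMul_vecMul]
    _ = 0 := by rw [h1, Matrix.zero_vecMul]

theorem JK_rr {r s : ℕ} (hr : r < chevE8.nroots) (hs : s < chevE8.nroots) :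
    JK (Sum.inr ⟨r, hr⟩) (Sum.inr ⟨s, hs⟩) = if s = 239 - r then 1 else 0 := by
  have h0 : JK (Sum.inr ⟨r, hr⟩) (Sum.inr ⟨s, hs⟩) =
      if (⟨s, hs⟩ : Fin chevE8.nroots) = Cfsg.Agent.H597.E8Form.rv ⟨r, hr⟩ then 1 else 0 :=
    Cfsg.Agent.H597.E8Form.J_rr _ _
  rw [h0]
  have hv' : (Cfsg.Agent.H597.E8Form.rv ⟨r, hr⟩ : Fin chevE8.nroots).val = 239 - r := Cfsg.Agent.H597.E8Form.rv_val _
  by_cases h : s = 239 - r
  · rw [if_pos h, if_pos (Fin.ext (h.trans hv'.symm))]
  · rw [if_neg h, if_neg fun h1 => h ((congrArg Fin.val h1).trans hv')]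

theorem BF_er_er {r s : ℕ} (hr : r < 240) (hs : s < 240) : BF (er r) (er s) = if s = 239 - r then 1 else 0 := by
  have hr' : r < chevE8.nroots := by rw [nr]; exact hr
  have hs' : s < chevE8.nroots := by rw [nr]; exact hs
  rw [er_of hr', er_of hs', BF_apply, Matrix.mulVec_single_one, single_one_dotProduct]
  exact JK_rr hr' hs'

theorem BF_hv_er (c : Fin chevE8.rank → KK) {s : ℕ} (hs : s < 240) : BF (hv c) (er s) = 0 := by
  have hs' : s < chevE8.nroots := by rw [nr]; exact hs
  rw [er_of hs']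
  unfold BF
  rw [Matrix.toLinearMap₂'_apply', Matrix.mulVec_single_one]
  show ∑ i, hv c i * JK i _ = 0
  rw [Fintype.sum_sum_type]
  have h1 : ∀ i : Fin chevE8.rank, hv c (Sum.inl i) * JK (Sum.inl i) (Sum.inr ⟨s, hs'⟩) = 0 := by
    intro i
    have : JK (Sum.inl i) (Sum.inr ⟨s, hs'⟩) = 0 := Cfsg.Agent.H597.E8Form.J_lr _ _
    rw [this, mul_zero]
  have h2 : ∀ i : Fin chevE8.nroots, hv c (Sum.inr i) * JK (Sum.inr i) (Sum.inr ⟨s, hs'⟩) = 0 := by
    intro i
    rw [show hv c (Sum.inr i) = 0 from rfl, zero_mul]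
  rw [Finset.sum_eq_zero fun i _ => h1 i, Finset.sum_eq_zero fun i _ => h2 i, add_zero]

/-- the number `(h_a, h_b)` -/
def ipr (a b : ℕ) : ℤ := ∑ i : Fin 8, ∑ j : Fin 8, cor chevE8 a i * (Cfsg.Agent.H597.E8Form.AZ i j * cor chevE8 b j)

theorem BF_hr_hr (a b : ℕ) : BF (hr a) (hr b) = ((ipr a b : ℤ) : KK) := by
  unfold BF
  rw [Matrix.toLinearMap₂'_apply]
  rw [Fintype.sum_sum_type]
  have h2 : ∀ i : Fin chevE8.nroots, (∑ j, hr a (Sum.inr i) • hr b j • JK (Sum.inr i) j) = 0 := by
    intro i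
    refine Finset.sum_eq_zero fun j _ => ?_
    rw [show hr a (Sum.inr i) = 0 from rfl, zero_smul]
  rw [Finset.sum_eq_zero fun i _ => h2 i, add_zero]
  have h3 : ∀ i : Fin chevE8.rank, (∑ j, hr a (Sum.inl i) • hr b j • JK (Sum.inl i) j) =
      ∑ j : Fin chevE8.rank, ((cor chevE8 a i : ℤ) : KK) * (((Cfsg.Agent.H597.E8Form.AZ ⟨i.val, Cfsg.Agent.H597.E8Form.lt8 i⟩
        ⟨j.val, Cfsg.Agent.H597.E8Form.lt8 j⟩ : ℤ) : KK) * ((cor chevE8 b j : ℤ) : KK)) := by
    intro i
    rw [Fintype.sum_sum_type]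
    have h4 : ∀ j : Fin chevE8.nroots, hr a (Sum.inl i) • hr b (Sum.inr j) • JK (Sum.inl i) (Sum.inr j) = 0 := by
      intro j
      rw [show hr b (Sum.inr j) = 0 from rfl, zero_smul, smul_zero]
    rw [Finset.sum_eq_zero fun j _ => h4 j, add_zero]
    refine Finset.sum_congr rfl fun j _ => ?_
    rw [smul_eq_mul, smul_eq_mul]
    show ((cor chevE8 a i : ℤ) : KK) * (((cor chevE8 b j : ℤ) : KK) * JK (Sum.inl i) (Sum.inl j)) = _
    have : JK (Sum.inl i) (Sum.inl j) = ((Cfsg.Agent.H597.E8Form.AZ ⟨i.val, Cfsg.Agent.H597.E8Form.lt8 i⟩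
        ⟨j.val, Cfsg.Agent.H597.E8Form.lt8 j⟩ : ℤ) : KK) := Cfsg.Agent.H597.E8Form.J_ll _ _
    rw [this, mul_comm (((cor chevE8 b j : ℤ) : KK))]
  rw [Finset.sum_congr rfl fun i _ => h3 i]
  unfold ipr
  push_cast
  rfl

theorem quartic {a b c d : KK} (h : ∀ x : KK, x * a + x ^ 2 * b + x ^ 3 * c + x ^ 4 * d = 0) : a = 0 := by
  have hP : (Polynomial.C a * Polynomial.X + Polynomial.C b * Polynomial.X ^ 2 + Polynomial.C c * Polynomial.X ^ 3 +
      Polynomial.C d * Polynomial.X ^ 4 : Polynomial KK) = 0 := by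
    apply Polynomial.funext
    intro x
    simp only [Polynomial.eval_add, Polynomial.eval_mul, Polynomial.eval_pow, Polynomial.eval_X, Polynomial.eval_C,
      Polynomial.eval_zero]
    linear_combination h x
  have h1 := congrArg (fun p => Polynomial.coeff p 1) hP
  simpa [Polynomial.coeff_X_pow] using h1

/-- the operator `ad e_r` is skew -/
theorem BF_br_er {r : ℕ} (hr' : r < 240) (u v : LK) : BF (brK (er r) u) v = BF u (brK (er r) v) := by
  have h : ∀ c : KK, c * (BF u (brK (er r) v) + BF (brK (er r) u) v) +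
      c ^ 2 * (v (Sum.inr ⟨239 - r, by rw [nr]; omega⟩) * BF u (er r) + BF (brK (er r) u) (brK (er r) v) +
        u (Sum.inr ⟨239 - r, by rw [nr]; omega⟩) * BF (er r) v) +
      c ^ 3 * (v (Sum.inr ⟨239 - r, by rw [nr]; omega⟩) * BF (brK (er r) u) (er r) +
        u (Sum.inr ⟨239 - r, by rw [nr]; omega⟩) * BF (er r) (brK (er r) v)) +
      c ^ 4 * (u (Sum.inr ⟨239 - r, by rw [nr]; omega⟩) * (v (Sum.inr ⟨239 - r, by rw [nr]; omega⟩) *
        BF (er r) (er r))) = 0 := by
    intro c
    have h1 := BF_aK (xr r c) u v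
    rw [aK_xr hr', aK_xr hr'] at h1
    simp only [map_add, map_smul, LinearMap.add_apply, LinearMap.smul_apply, smul_eq_mul] at h1
    linear_combination h1
  have h1 := quartic h
  have h2 := kadd_self (BF u (brK (er r) v))
  linear_combination h1 - h2

/-- every `ad x` is skew -/
theorem BF_skew (x : LK) : ∀ u v, BF (brK x u) v = BF u (brK x v) := by
  have hbr : ∀ x y : LK, (∀ u v, BF (brK x u) v = BF u (brK x v)) → (∀ u v, BF (brK y u) v = BF u (brK y v)) →
      ∀ u v, BF (brK (brK x y) u) v = BF u (brK (brK x y) v) := by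
    intro x y hx hy u v
    rw [jac2, jac2, map_add, LinearMap.add_apply, map_add, hx, hy, hy, hx, add_comm]
  refine lk_ind (P := fun x => ∀ u v, BF (brK x u) v = BF u (brK x v)) ?_ ?_ ?_ ?_ ?_ x
  · intro u v
    rw [bzl, bzl, map_zero, map_zero, LinearMap.zero_apply]
  · intro x y hx hy u v
    rw [bal, bal, map_add, map_add, LinearMap.add_apply, hx, hy]
  · intro c x hx u v
    rw [bsl, bsl, map_smul, map_smul, LinearMap.smul_apply, hx]
  · intro s hs
    exact BF_br_er hs
  · intro k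
    rw [← br_neg (six_lt k)]
    exact hbr _ _ (BF_br_er (six_lt k)) (BF_br_er (by omega))

/-- **the form is invariant under the Lie algebra** -/
theorem BF_br (u v w : LK) : BF (brK u v) w = BF u (brK v w) := by
  rw [br_comm u v, BF_skew]

/-! ### the Frobenius map -/

theorem int_sq (n : ℤ) : ((n : ℤ) : KK) ^ 2 = n := by
  have := charKK
  rw [← frobenius_def, map_intCast]

theorem fr_hr (a : ℕ) : fr (hr a) = hr a := by
  funext i
  rcases i with i | s
  · exact int_sq _
  · show (0 : KK) ^ 2 = 0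
    rw [zero_pow two_ne_zero]

theorem Fp16_er {s : ℕ} (hs : s < 240) : Fp16 (er s) = er (wi s) := by
  unfold Fp16
  rw [fr_er, aK_m16 hs]

theorem Fp16_hr {s : ℕ} (hs : s < 240) : Fp16 (hr s) = hr (wi s) := by
  unfold Fp16
  rw [fr_hr, aK_m16_hr hs]

theorem Fp16_surj : Function.Surjective Fp16 := by
  intro v
  have h : ∀ a : KK, ∃ b : KK, b ^ 2 = a := fun a => IsAlgClosed.exists_pow_nat_eq a (by norm_num)
  refine ⟨fun i => (h ((aK m16⁻¹ v) i)).choose, ?_⟩
  have h1 : fr (fun i => (h ((aK m16⁻¹ v) i)).choose) = aK m16⁻¹ v := by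
    funext i
    exact (h ((aK m16⁻¹ v) i)).choose_spec
  unfold Fp16
  rw [h1, aK_inv]

/-- **the log vector is rational** -/
theorem Fp16_cz : Fp16 cz = cz := by
  have e1 : wi 152 = 159 := by decide +kernel
  have e2 : wi 159 = 226 := by decide +kernel
  have e3 : wi 226 = 239 := by decide +kernel
  have e4 : wi 239 = 87 := by decide +kernel
  have e5 : wi 87 = 80 := by decide +kernel
  have e6 : wi 80 = 13 := by decide +kernel
  have e7 : wi 13 = 0 := by decide +kernel
  have e8 : wi 0 = 152 := by decide +kernel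
  have e9 : hr 87 = hr 152 := hr_neg (r := 152) (by norm_num)
  rw [cz_eq]
  simp only [ops16.add]
  rw [Fp16_er (s := 152) (by norm_num), Fp16_er (s := 159) (by norm_num), Fp16_er (s := 226) (by norm_num),
    Fp16_er (s := 239) (by norm_num), Fp16_er (s := 87) (by norm_num), Fp16_er (s := 80) (by norm_num),
    Fp16_er (s := 13) (by norm_num), Fp16_er (s := 0) (by norm_num), Fp16_hr (s := 152) (by norm_num),
    Fp16_hr (s := 159) (by norm_num), Fp16_hr (s := 226) (by norm_num), Fp16_hr (s := 239) (by norm_num),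
    e1, e2, e3, e4, e5, e6, e7, e8, e9]
  abel

/-! ### the logarithm -/

theorem BF_cz_er {a : ℕ} (ha : a < 240) :
    BF cz (er a) = if a ∈ [87, 152, 80, 159, 13, 226, 0, 239] then 1 else 0 := by
  rw [cz_eq]
  simp only [map_add, LinearMap.add_apply]
  have h0 : ∀ g, BF (hr g) (er a) = 0 := fun g => BF_hv_er _ ha
  rw [h0, h0, h0, h0, BF_er_er (by norm_num) ha, BF_er_er (by norm_num) ha, BF_er_er (by norm_num) ha,
    BF_er_er (by norm_num) ha, BF_er_er (by norm_num) ha, BF_er_er (by norm_num) ha, BF_er_er (by norm_num) ha,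
    BF_er_er (by norm_num) ha]
  norm_num
  by_cases h1 : a = 87
  · subst h1; norm_num
  by_cases h2 : a = 152
  · subst h2; norm_num
  by_cases h3 : a = 80
  · subst h3; norm_num
  by_cases h4 : a = 159
  · subst h4; norm_num
  by_cases h5 : a = 13
  · subst h5; norm_num
  by_cases h6 : a = 226
  · subst h6; norm_num
  by_cases h7 : a = 0
  · subst h7; norm_num
  by_cases h8 : a = 239
  · subst h8; norm_num
  simp [h1, h2, h3, h4, h5, h6, h7, h8]

theorem tab_log : ((List.range 240).all fun s => decide (s = 239 - wi (wi (wi (wi s))) ↔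
    wi s ∈ [87, 152, 80, 159, 13, 226, 0, 239])) = true := by decide +kernel

theorem tab_hr : ∀ k : Fin 8, (ipr (wi (wi (wi (wi (six k))))) (six k) - (ipr 152 (wi (six k)) + ipr 159 (wi (six k)) +
    ipr 226 (wi (six k)) + ipr 239 (wi (six k)))) % 2 = 0 := by decide +kernel

theorem aK_tau16_hr {s : ℕ} (hs : s < 240) : aK tau16 (hr s) = hr (wi (wi (wi (wi s)))) := by
  have h1 := wi_lt hs
  have h2 := wi_lt h1
  have h3 := wi_lt h2
  have e : tau16 = m16 * (m16 * (m16 * m16)) := by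
    unfold tau16
    simp only [pow_succ, pow_zero, one_mul, mul_assoc]
  rw [e, aK_mul, aK_mul, aK_mul, aK_m16_hr hs, aK_m16_hr h1, aK_m16_hr h2, aK_m16_hr h3]

theorem aK_tau_tau (v : LK) : aK tau16 (aK tau16 v) = v := by rw [← aK_mul, tau16_sq, aK_one]

/-- **the logarithm of `τ`** -/
theorem log_cz (v : LK) : BF (aK tau16 v) v = BF cz (Fp16 v) := by
  refine lk_ind (P := fun v => BF (aK tau16 v) v = BF cz (Fp16 v)) ?_ ?_ ?_ ?_ ?_ v
  · have h0 : Fp16 0 = 0 := by
      have := ops16.smul 0 0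
      rwa [zero_pow two_ne_zero, zero_smul, zero_smul] at this
    rw [h0, map_zero, map_zero]
  · intro u v hu hv
    rw [aK_add, ops16.add]
    simp only [map_add, LinearMap.add_apply]
    rw [hu, hv]
    have h1 : BF (aK tau16 u) v = BF (aK tau16 v) u := by
      rw [← BF_aK tau16, aK_tau_tau, BF_symm]
    rw [h1]
    have h2 := kadd_self (BF (aK tau16 v) u)
    linear_combination h2
  · intro c v hv
    rw [aK_smul, ops16.smul]
    simp only [map_smul, LinearMap.smul_apply, smul_eq_mul]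
    rw [hv]
    ring
  · intro s hs
    have h4 := wi_lt (wi_lt (wi_lt (wi_lt hs)))
    have ht := of_decide_eq_true (List.all_eq_true.1 tab_log s (List.mem_range.2 hs))
    rw [aK_tau16 hs, BF_er_er h4 hs, Fp16_er hs, BF_cz_er (wi_lt hs)]
    by_cases h : s = 239 - wi (wi (wi (wi s)))
    · rw [if_pos h, if_pos (ht.1 h)]
    · rw [if_neg h, if_neg fun h1 => h (ht.2 h1)]
  · intro k
    have h0 : ∀ {g : ℕ}, g < 240 → BF (er g) (hr (wi (six k))) = 0 := by
      intro g hg
      rw [BF_symm]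
      exact BF_hv_er _ hg
    rw [aK_tau16_hr (six_lt k), Fp16_hr (six_lt k), BF_hr_hr, cz_eq]
    simp only [map_add, LinearMap.add_apply, BF_hr_hr]
    rw [h0 (by norm_num), h0 (by norm_num), h0 (by norm_num), h0 (by norm_num), h0 (by norm_num), h0 (by norm_num),
      h0 (by norm_num), h0 (by norm_num)]
    have h1 := cast_congr (tab_hr k)
    push_cast at h1
    linear_combination h1

/-! ### the square of `ad c₀` -/

theorem dbl_add (u v x : LK) : brK (u + v) (brK (u + v) x) =
    brK u (brK u x) + brK v (brK v x) + brK (brK u v) x := by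
  rw [bal, bal, bar, bar, jac2]
  abel

theorem tab_sq : ∀ r ∈ [87, 152, 80, 159, 13, 226, 0, 239], ∀ s < 240,
    tg r s = 240 ∨ (tg r (tg r s) = 240 ∧ tg r s ≠ 239 - r) := by decide +kernel

theorem dbl_er {r : ℕ} (hm : r ∈ [87, 152, 80, 159, 13, 226, 0, 239]) (x : LK) : brK (er r) (brK (er r) x) = 0 := by
  have hr' : r < 240 := by
    have : ∀ r ∈ [87, 152, 80, 159, 13, 226, 0, 239], r < 240 := by decide
    exact this r hm
  refine lk_ind (P := fun x => brK (er r) (brK (er r) x) = 0) ?_ ?_ ?_ ?_ ?_ x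
  · rw [bzr, bzr]
  · intro u v hu hv
    rw [bar, bar, hu, hv, add_zero]
  · intro c u hu
    rw [bsr, bsr, hu, smul_zero]
  · intro s hs
    by_cases h : s = 239 - r
    · rw [h, br_neg hr', br_hr_self hr']
    · rw [br_rr hr' hs h]
      rcases tab_sq r hm s hs with h1 | ⟨h1, h2⟩
      · rw [h1, er_ge le_rfl, bzr]
      · by_cases h3 : tg r s < 240
        · rw [br_rr hr' h3 h2, h1, er_ge le_rfl]
        · have h5 : er (tg r s) = 0 := er_ge (by omega)
          rw [h5, bzr]
  · intro k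
    rw [show hr (six k) = hv fun i => ((cor chevE8 (six k) i : ℤ) : KK) from rfl, br_er_hv _ hr', bsr,
      br_rr hr' hr' (by omega), tg_self hr', er_ge le_rfl, smul_zero]

/-- the pairing -/
def prn (g s : ℕ) : ℤ := ∑ i : Fin 8, cor chevE8 g i * car chevE8 i s

theorem hr_er (g : ℕ) {s : ℕ} (hs : s < 240) : brK (hr g) (er s) = ((prn g s : ℤ) : KK) • er s := by
  rw [show hr g = hv fun i => ((cor chevE8 g i : ℤ) : KK) from rfl, br_hv _ hs]
  congr 1
  unfold prn
  push_cast
  rfl

theorem hr_hr (g h : ℕ) : brK (hr g) (hr h) = 0 := br_hh _ _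

theorem dbl_hr (g : ℕ) (x : LK) : brK (hr g) (brK (hr g) x) = brK (hr g) x := by
  refine lk_ind (P := fun x => brK (hr g) (brK (hr g) x) = brK (hr g) x) ?_ ?_ ?_ ?_ ?_ x
  · rw [bzr, bzr]
  · intro u v hu hv
    rw [bar, bar, hu, hv]
  · intro c u hu
    rw [bsr, bsr, hu]
  · intro s hs
    rw [hr_er g hs, bsr, hr_er g hs, smul_smul, ← pow_two, int_sq]
  · intro k
    rw [hr_hr, bzr]

/-- the summands of the log vector -/
noncomputable def cc (g : ℕ) : LK := hr g + er g + er (239 - g)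

theorem dbl_cc {g : ℕ} (h1 : g ∈ [87, 152, 80, 159, 13, 226, 0, 239]) (h2 : 239 - g ∈ [87, 152, 80, 159, 13, 226, 0, 239])
    (hg : g < 240) (x : LK) : brK (cc g) (brK (cc g) x) = 0 := by
  have h3 : brK (hr g) (er g) = 0 := by rw [br_comm, br_hr_self hg]
  have h4 : brK (hr g) (er (239 - g)) = 0 := by
    rw [br_comm, ← hr_neg hg, br_hr_self (by omega)]
  unfold cc
  rw [dbl_add, dbl_add, dbl_er h1, dbl_er h2, dbl_hr, h3, bzl, bal, h4, br_neg hg, zero_add, add_zero, add_zero,
    add_zero, ladd_self]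

/-- the condition for commuting summands -/
def cok (g h : ℕ) : Bool := decide (h ≠ 239 - g) && decide (h ≠ g) && decide (tg g h = 240) && decide (tg g (239 - h) = 240) &&
  decide (tg (239 - g) h = 240) && decide (tg (239 - g) (239 - h) = 240) && decide (prn g h % 2 = 0) &&
  decide (prn g (239 - h) % 2 = 0) && decide (prn h g % 2 = 0) && decide (prn h (239 - g) % 2 = 0)

theorem cc_comm {g h : ℕ} (hg : g < 240) (hh : h < 240) (hc : cok g h = true) : brK (cc g) (cc h) = 0 := by
  unfold cok at hc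
  simp only [Bool.and_eq_true, decide_eq_true_eq] at hc
  obtain ⟨⟨⟨⟨⟨⟨⟨⟨⟨c1, c2⟩, c3⟩, c4⟩, c5⟩, c6⟩, c7⟩, c8⟩, c9⟩, c10⟩ := hc
  have hg' : 239 - g < 240 := by omega
  have hh' : 239 - h < 240 := by omega
  unfold cc
  simp only [bal, bar]
  rw [hr_hr, hr_er g hh, hr_er g hh', br_comm (er g) (hr h), br_comm (er (239 - g)) (hr h), hr_er h hg, hr_er h hg',
    cast_even c7, cast_even c8, cast_even c9, cast_even c10, br_rr hg hh c1, br_rr hg hh' (by omega),
    br_rr hg' hh (by omega), br_rr hg' hh' (by omega), c3, c4, c5, c6, er_ge le_rfl]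
  simp only [zero_smul, add_zero]

/-- **the log vector has square zero** -/
theorem cz_sq (x : LK) : brK cz (brK cz x) = 0 := by
  have e : cz = cc 152 + cc 159 + cc 226 + cc 239 := cz_eq
  have c1 : brK (cc 152) (cc 159) = 0 := cc_comm (by norm_num) (by norm_num) (by decide +kernel)
  have c2 : brK (cc 152) (cc 226) = 0 := cc_comm (by norm_num) (by norm_num) (by decide +kernel)
  have c3 : brK (cc 159) (cc 226) = 0 := cc_comm (by norm_num) (by norm_num) (by decide +kernel)
  have c4 : brK (cc 152) (cc 239) = 0 := cc_comm (by norm_num) (by norm_num) (by decide +kernel)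
  have c5 : brK (cc 159) (cc 239) = 0 := cc_comm (by norm_num) (by norm_num) (by decide +kernel)
  have c6 : brK (cc 226) (cc 239) = 0 := cc_comm (by norm_num) (by norm_num) (by decide +kernel)
  rw [e, dbl_add, dbl_add, dbl_add, dbl_cc (by decide) (by decide) (by norm_num), dbl_cc (by decide) (by decide) (by norm_num),
    dbl_cc (by decide) (by decide) (by norm_num), dbl_cc (by decide) (by decide) (by norm_num)]
  simp only [bal, c1, c2, c3, c4, c5, c6, bzl, add_zero]

theorem hr_sum_ne : hr 152 + hr 159 + hr 226 + hr 239 ≠ 0 := by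
  intro h
  have h1 : BF (hr 152 + hr 159 + hr 226 + hr 239) (hr (six 0)) = 0 := by
    rw [h, map_zero, LinearMap.zero_apply]
  simp only [map_add, LinearMap.add_apply, BF_hr_hr] at h1
  have h2 : (ipr 152 (six 0) + ipr 159 (six 0) + ipr 226 (six 0) + ipr 239 (six 0)) % 2 ≠ 0 := by decide +kernel
  have h3 := cast_odd h2
  push_cast at h3
  rw [h1] at h3
  exact zero_ne_one h3

end Cfsg.Agent.H942.L16
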